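import Groth.Agent.FormCat.HenzNormal
import Groth.Agent.CplFib6.GeomRedFormal

/-!
# Henselization and geometrically reduced formal fibres
-/

set_option autoImplicit false
set_option linter.all false

universe u

open IsLocalRing TensorProduct

namespace Groth.Agent.H1Hz

open Groth.Agent Groth.Agent.FormCat

variable {R S : Type u} [CommRing R] [IsLocalRing R] [IsNoetherianRing R] [CommRing S] [IsLocalRing S] [Algebra R S]
  [IsLocalHom (algebraMap R S)] [_root_.Hensel.IsHenselization R S]

/-- Geometrically reduced formal fibres pass to the henselization. -/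
theorem hasGeomReducedFormalFibres_henselization [IsNoetherianRing S] (hR : EGA4.HasGeomReducedFormalFibres R) :
    EGA4.HasGeomReducedFormalFibres S := by
  have hH := Hensel.isHenzLike_of_isHenselization (R := R) (S := S)
  haveI : Module.FaithfullyFlat R S := hH.faithfullyFlat
  have hB := (Hensel.isPairHenselization_iff_isHenselization R S).2 inferInstance
  have hm := hH.map_maximalIdeal
  have hs : ∀ b : S, ∃ a, b - algebraMap R S a ∈ maximalIdeal S := fun b => by
    obtain ⟨a, ha⟩ := Hensel.exists_sub_mem_of_isPairHenselization (maximalIdeal R) hB b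
    exact ⟨a, hm.le ha⟩
  haveI := FlatLoc6.isNoetherianRing_cpl R
  haveI := FlatLoc6.isNoetherianRing_cpl S
  haveI := FlatLoc6.faithfullyFlat_cpl R
  obtain ⟨_, hst, hbij⟩ := PopescuLib.exists_cpl_iso R S hm hs
  haveI := hst
  let C := EGA4.Cpl S
  intro q _
  refine FlatLoc6.geomReduced_of_finite fun L _ _ hL => ?_
  haveI := hL
  letI : Algebra S L := ((algebraMap q.ResidueField L).comp (algebraMap S q.ResidueField)).toAlgebra
  haveI : IsScalarTower S q.ResidueField L := IsScalarTower.of_algebraMap_eq' rfl
  letI : Algebra R L := ((algebraMap S L).comp (algebraMap R S)).toAlgebra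
  haveI : IsScalarTower R S L := IsScalarTower.of_algebraMap_eq' rfl
  haveI : (RingHom.ker (algebraMap R L)).IsPrime := RingHom.ker_isPrime _
  let p := RingHom.ker (algebraMap R L)
  obtain ⟨_, _⟩ := FlatLoc6.exists_residueAlgebra (L := L) p rfl
  let T := S ⊗[R] L
  haveI : IsReduced T := hH.isReduced_tensor L
  letI : Algebra L T := Algebra.TensorProduct.rightAlgebra
  haveI : Algebra.IsIntegral L T := by
    obtain ⟨n, K, _, _, hK, ⟨e⟩⟩ := hH.exists_fibre_equiv_pi p
    haveI := hK
    haveI : Algebra.IsIntegral p.ResidueField (p.ResidueField ⊗[R] S) :=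
      haveI := isIntegral_pi (k := p.ResidueField) K
      e.isIntegral_iff.mpr inferInstance
    haveI : Algebra.IsIntegral L (L ⊗[R] S) :=
      (Algebra.TensorProduct.cancelBaseChange R p.ResidueField L L S).isIntegral_iff.mp inferInstance
    let g : L ⊗[R] S ≃ₐ[L] T := { (Algebra.TensorProduct.comm R L S).toRingEquiv with
      commutes' := fun z => by
        show Algebra.TensorProduct.comm R L S (z ⊗ₜ 1) = (1 : S) ⊗ₜ z
        simp }
    exact g.isIntegral_iff.mp inferInstance
  letI : Algebra T L := (Algebra.TensorProduct.lift (IsScalarTower.toAlgHom R S L) (AlgHom.id R L)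
    fun _ _ => Commute.all _ _).toRingHom.toAlgebra
  haveI : IsScalarTower L T L := IsScalarTower.of_algebraMap_eq fun z => by
    show _ = Algebra.TensorProduct.lift (IsScalarTower.toAlgHom R S L) (AlgHom.id R L) _ ((1 : S) ⊗ₜ z)
    simp
  haveI : (RingHom.ker (algebraMap T L)).IsPrime := RingHom.ker_isPrime _
  haveI hloc := isLocalization_residue_of_isIntegral L T
  haveI : IsScalarTower S T L := IsScalarTower.of_algebraMap_eq fun s => by
    show _ = Algebra.TensorProduct.lift (IsScalarTower.toAlgHom R S L) (AlgHom.id R L) _ (s ⊗ₜ (1 : L))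
    simp
  -- base change along `S → C`
  letI : Algebra (T ⊗[S] C) (L ⊗[S] C) :=
    (Algebra.TensorProduct.map (IsScalarTower.toAlgHom S T L) (AlgHom.id S C)).toRingHom.toAlgebra
  haveI : IsScalarTower T (T ⊗[S] C) (L ⊗[S] C) := IsScalarTower.of_algebraMap_eq fun c => by
    show _ = Algebra.TensorProduct.map (IsScalarTower.toAlgHom S T L) (AlgHom.id S C) (c ⊗ₜ 1)
    simp
  haveI := IsLocalization.tensorProduct_tensorProduct (R := S) (A := T) (S := C)
    (RingHom.ker (algebraMap T L)).primeCompl L (RingHom.ext fun x => by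
      show Algebra.TensorProduct.map (IsScalarTower.toAlgHom S T L) (AlgHom.id S C) (1 ⊗ₜ x) = _
      simp)
  have h0 : IsReduced (EGA4.Cpl R ⊗[R] L) := FlatLoc6.isReduced_baseChange (EGA4.Cpl R) hR L
  have h1 : IsReduced (C ⊗[R] L) :=
    let E : C ⊗[R] L ≃ₐ[R] EGA4.Cpl R ⊗[R] L := Algebra.TensorProduct.congr
      (AlgEquiv.ofBijective (IsScalarTower.toAlgHom R (EGA4.Cpl R) C) hbij).symm AlgEquiv.refl
    isReduced_of_injective E.toAlgHom E.injective
  have h2 : IsReduced (T ⊗[S] C) :=
    let E := (Algebra.TensorProduct.comm S C (S ⊗[R] L)).symm.toRingEquiv.trans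
      (Algebra.TensorProduct.cancelBaseChange R S S C L).toRingEquiv
    isReduced_of_injective E E.injective
  have h3 : IsReduced (L ⊗[S] C) :=
    isReduced_localizationPreserves
      (Algebra.algebraMapSubmonoid (T ⊗[S] C) (RingHom.ker (algebraMap T L)).primeCompl) _ h2
  exact isReduced_of_injective (Algebra.TensorProduct.cancelBaseChange S q.ResidueField L L C)
    (Algebra.TensorProduct.cancelBaseChange S q.ResidueField L L C).injective

end Groth.Agent.H1Hz
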